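import Mathlib
import Cfsg.Agent.Lib.Helper55.OEll.Defs
import Cfsg.Agent.Lib.Helper1.OHyp.Sum

/-!
# OELL (S5993): common core of the packages [PCRITE] / [PCRITO]

For an isometry `x` and an `x`-invariant nondegenerate `W`, with `N = x - 1` restricted to `W`:
`range N = (ker N)^⊥` inside `W`.
-/

set_option autoImplicit false
open scoped MatrixGroups
open Matrix

namespace Cfsg.Agent.Lib.Helper1.OEll

open Cfsg.Agent.Lib.Helper23.OHyp Cfsg.Agent.Lib.Helper1.OHyp Module

universe u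

section

variable {F : Type u} [Field F] {ι : Type} [Fintype ι] [DecidableEq ι]

theorem N_apply (x : Matrix ι ι F) (w : ι → F) : (Matrix.toLin' x - 1) w = x *ᵥ w - w := by
  rw [LinearMap.sub_apply, Matrix.toLin'_apply, Module.End.one_apply]

theorem N_mem (x : Matrix ι ι F) (W : Submodule F (ι → F)) (hInv : Inv x W) :
    ∀ w ∈ W, (Matrix.toLin' x - 1) w ∈ W := by
  intro w hw
  rw [N_apply]
  have h := hInv (Submodule.mem_map_of_mem hw)
  rw [Matrix.toLin'_apply] at h
  exact W.sub_mem h hw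

omit [DecidableEq ι] in
theorem polar_iso (Q : (ι → F) → F) (x : Matrix ι ι F) (hx : ∀ v, Q (x *ᵥ v) = Q v)
    (u v : ι → F) : QuadraticMap.polar Q (x *ᵥ u) (x *ᵥ v) = QuadraticMap.polar Q u v := by
  unfold QuadraticMap.polar
  rw [← Matrix.mulVec_add, hx, hx, hx]

theorem polar_fix_N (Q : (ι → F) → F) (hQ : Cfsg.Geo.IsNondegenerateQuadraticForm Q)
    (x : Matrix ι ι F) (hx : ∀ v, Q (x *ᵥ v) = Q v) (k u : ι → F) (hk : x *ᵥ k = k) :
    QuadraticMap.polar Q k (x *ᵥ u - u) = 0 := by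
  have h1 : polB Q hQ k (x *ᵥ u - u) = polB Q hQ k (x *ᵥ u) - polB Q hQ k u := by
    rw [map_sub]
  rw [← polB_apply Q hQ, h1, polB_apply, polB_apply]
  have h2 := polar_iso Q x hx k u
  rw [hk] at h2
  rw [h2, sub_self]

omit [Fintype ι] [DecidableEq ι] in
theorem restrict_nondegenerate (Q : (ι → F) → F) (hQ : Cfsg.Geo.IsNondegenerateQuadraticForm Q)
    (W : Submodule F (ι → F)) (hNd : Nd Q W) : ((polB Q hQ).restrict W).Nondegenerate := by
  refine ⟨fun x hx => ?_, fun y hy => ?_⟩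
  · by_contra hx0
    have hx0' : (x : ι → F) ≠ 0 := fun h => hx0 (Subtype.ext h)
    obtain ⟨-, z, hz, hzx⟩ := hNd x x.2 hx0'
    exact hzx (hx ⟨z, hz⟩)
  · by_contra hy0
    have hy0' : (y : ι → F) ≠ 0 := fun h => hy0 (Subtype.ext h)
    obtain ⟨⟨z, hz, hzy⟩, -⟩ := hNd y y.2 hy0'
    exact hzy (hy ⟨z, hz⟩)

theorem NW_coe (x : Matrix ι ι F) (W : Submodule F (ι → F)) (hInv : Inv x W) (w : ↥W) :
    ((((Matrix.toLin' x - 1).restrict (N_mem x W hInv)) w : ↥W) : ι → F) =
      x *ᵥ (w : ι → F) - w := by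
  rw [LinearMap.coe_restrict_apply, N_apply]

theorem NW_ker (x : Matrix ι ι F) (W : Submodule F (ι → F)) (hInv : Inv x W) (k : ↥W)
    (hk : k ∈ LinearMap.ker ((Matrix.toLin' x - 1).restrict (N_mem x W hInv))) :
    x *ᵥ (k : ι → F) = k := by
  have h1 := congrArg Subtype.val (LinearMap.mem_ker.mp hk)
  rw [NW_coe x W hInv] at h1
  exact sub_eq_zero.mp h1

/-- `range N = (ker N)^⊥` inside `W` -/
theorem core (Q : (ι → F) → F) (hQ : Cfsg.Geo.IsNondegenerateQuadraticForm Q)
    (x : Matrix ι ι F) (hx : ∀ v, Q (x *ᵥ v) = Q v) (W : Submodule F (ι → F))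
    (hInv : Inv x W) (hNd : Nd Q W) :
    LinearMap.range ((Matrix.toLin' x - 1).restrict (N_mem x W hInv)) =
      ((polB Q hQ).restrict W).orthogonal
        (LinearMap.ker ((Matrix.toLin' x - 1).restrict (N_mem x W hInv))) := by
  have hnd : ((polB Q hQ).restrict W).Nondegenerate := restrict_nondegenerate Q hQ W hNd
  apply Submodule.eq_of_le_of_finrank_eq
  · rintro _ ⟨u, rfl⟩
    rw [LinearMap.BilinForm.mem_orthogonal_iff]
    intro k hk
    have hk' := NW_ker x W hInv k hk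
    show QuadraticMap.polar Q (k : ι → F)
      ((((Matrix.toLin' x - 1).restrict (N_mem x W hInv)) u : ↥W) : ι → F) = 0
    rw [NW_coe x W hInv]
    exact polar_fix_N Q hQ x hx k u hk'
  · rw [LinearMap.BilinForm.finrank_orthogonal hnd]
    have := LinearMap.finrank_range_add_finrank_ker
      ((Matrix.toLin' x - 1).restrict (N_mem x W hInv))
    omega

end

end Cfsg.Agent.Lib.Helper1.OEll
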