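import Mathlib
import Cfsg.Agent.Lib.Helper55.OEll.Defs
import Cfsg.Agent.Lib.Helper1.OEll.PCore

/-!
# OELL (S5993): package [PCRITO]
-/

set_option autoImplicit false
open scoped MatrixGroups
open Matrix

namespace Cfsg.Agent.Lib.Helper1.OEll

open Cfsg.Agent.Lib.Helper23.OHyp Cfsg.Agent.Lib.Helper55.OEll Cfsg.Agent.Lib.Helper1.OHyp Module

universe u

theorem pkgPCritO : PkgPCritO.{u} := by
  intro F _ ι _ _ Q hQ h2 x hx hfixQ ht W hInv hNd hEven
  obtain ⟨t, ht⟩ := ht
  classical
  have hNWc : ∀ w : ↥W, ((((Matrix.toLin' x - 1).restrict (N_mem x W hInv)) w : ↥W) : ι → F) =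
      x *ᵥ (w : ι → F) - w := fun w => NW_coe x W hInv w
  have hcore := core Q hQ x hx W hInv hNd
  have hker : ∀ k ∈ LinearMap.ker ((Matrix.toLin' x - 1).restrict (N_mem x W hInv)),
      x *ᵥ (k : ι → F) = k := fun k hk => NW_ker x W hInv k hk
  generalize (Matrix.toLin' x - 1).restrict (N_mem x W hInv) = NW at hNWc hcore hker
  -- `K ≤ I`
  have hKI : LinearMap.ker NW ≤ LinearMap.range NW := by
    rw [hcore]
    intro k hk
    rw [LinearMap.BilinForm.mem_orthogonal_iff]
    intro k' hk'
    show QuadraticMap.polar Q (k' : ι → F) (k : ι → F) = 0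
    unfold QuadraticMap.polar
    have e1 := hker k hk
    have e2 := hker k' hk'
    rw [hfixQ _ e1, hfixQ _ e2, hfixQ ((k' : ι → F) + k) (by rw [Matrix.mulVec_add, e1, e2])]
    ring
  -- `dim I ≤ dim K + 1`
  have hrk := LinearMap.finrank_range_add_finrank_ker NW
  obtain ⟨g, hgdef⟩ : ∃ g : ↥(LinearMap.range NW) →ₗ[F] (ι → F),
      ∀ c, g c = ((NW (c : ↥W) : ↥W) : ι → F) :=
    ⟨W.subtype.comp (NW.domRestrict (LinearMap.range NW)), fun c => rfl⟩
  have hg := LinearMap.finrank_range_add_finrank_ker (K := F) (V := ↥(LinearMap.range NW))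
    (V₂ := ι → F) g
  have hg1 : finrank F (LinearMap.range g) ≤ 1 := by
    have hle : LinearMap.range g ≤ Submodule.span F {t} := by
      rintro _ ⟨⟨_, u, rfl⟩, rfl⟩
      have h1 := ht (u : ι → F)
      have e : g ⟨NW u, ⟨u, rfl⟩⟩ = ((x - 1) * (x - 1)) *ᵥ (u : ι → F) := by
        rw [hgdef, hNWc, hNWc, ← Matrix.mulVec_mulVec, Matrix.sub_mulVec, Matrix.one_mulVec,
          Matrix.sub_mulVec, Matrix.one_mulVec]
      rw [e]
      exact h1
    exact (Submodule.finrank_mono hle).trans
      ((finrank_span_le_card ({t} : Set (ι → F))).trans (by simp))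
  have hg2 : finrank F (LinearMap.ker g) ≤ finrank F (LinearMap.ker NW) := by
    apply LinearMap.finrank_le_finrank_of_injective
      (f := LinearMap.codRestrict (LinearMap.ker NW) ((LinearMap.range NW).subtype.comp
        (LinearMap.ker g).subtype) (by
        intro c
        have h1 : g c = 0 := c.2
        rw [hgdef] at h1
        rw [LinearMap.mem_ker]
        apply Subtype.ext
        exact h1))
    intro a b hab
    have h3 := congrArg (fun z : ↥(LinearMap.ker NW) => (z : ↥W)) hab
    exact Subtype.ext (Subtype.ext h3)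
  have hK : finrank F (LinearMap.ker NW) ≤ finrank F (LinearMap.range NW) :=
    Submodule.finrank_mono hKI
  obtain ⟨f, hf⟩ := hEven
  have hdim : 2 * finrank F (LinearMap.ker NW) = finrank F W := by omega
  refine ⟨(LinearMap.ker NW).map W.subtype, Submodule.map_subtype_le W _, ?_, ?_⟩
  · rintro _ ⟨k, hk, rfl⟩
    exact hfixQ _ (hker k hk)
  · rw [← hdim]
    congr 1
    exact (Submodule.equivSubtypeMap W _).finrank_eq.symm

end Cfsg.Agent.Lib.Helper1.OEll
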